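import Groth.Prelude
import Groth.Agent.S9207

/-! Morphisms of separated unramified schemes over a limit agree at a stage. -/

set_option autoImplicit false
set_option linter.style.haveILetI false
set_option backward.isDefEq.respectTransparency false

universe u
open CategoryTheory CategoryTheory.Limits AlgebraicGeometry

noncomputable section

namespace Groth.Agent.FEtLimFaith

theorem exists_stage_eq {I : Type u} [SmallCategory I] [IsCofiltered I]
    (D : I ⥤ Scheme.{u}) (c : Limits.Cone D) (hc : Limits.IsLimit c)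
    [∀ (i j : I) (f : i ⟶ j), IsAffineHom (D.map f)] [∀ i, CompactSpace (D.obj i)]
    [∀ i, QuasiSeparatedSpace (D.obj i)] (i : I) {V W : Scheme.{u}} (v : V ⟶ D.obj i) (w : W ⟶ D.obj i)
    [QuasiCompact v] [IsSeparated w] [FormallyUnramified w] [LocallyOfFiniteType w]
    (φ ψ : V ⟶ W) (hφ : φ ≫ w = v) (hψ : ψ ≫ w = v)
    (h : pullback.fst v (c.π.app i) ≫ φ = pullback.fst v (c.π.app i) ≫ ψ) :
    ∃ (j : I) (a : j ⟶ i), pullback.fst v (D.map a) ≫ φ = pullback.fst v (D.map a) ≫ ψ := by
  haveI : CompactSpace V := QuasiCompact.compactSpace_of_compactSpace v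
  let Δ := pullback.diagonal w
  let m := pullback.lift φ ψ (hφ.trans hψ.symm)
  haveI : IsOpenImmersion Δ := inferInstance
  haveI : IsClosedImmersion Δ := inferInstance
  let U : V.Opens := ⟨(m ⁻¹' Set.range Δ)ᶜ,
    (Δ.isClosedEmbedding.isClosed_range.preimage m.continuous).isOpen_compl⟩
  haveI : CompactSpace U.toScheme := by
    refine isCompact_iff_compactSpace.1 ?_
    exact ((Δ.isOpenEmbedding.isOpen_range.preimage m.continuous).isClosed_compl).isCompact
  have hempty : IsEmpty ↥(pullback (U.ι ≫ v) (c.π.app i)) := ⟨fun z => by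
    let l := pullback.map (U.ι ≫ v) (c.π.app i) v (c.π.app i) U.ι (𝟙 _) (𝟙 _)
      (by rw [Category.comp_id]) (by simp)
    have e : pullback.fst v (c.π.app i) ≫ m = (pullback.fst v (c.π.app i) ≫ φ) ≫ Δ := by
      apply pullback.hom_ext
      · simp [m, Δ]
      · simp only [Category.assoc, m, Δ, pullback.lift_snd, pullback.diagonal_snd, Category.comp_id]
        exact h.symm
    have hz : U.ι (pullback.fst (U.ι ≫ v) (c.π.app i) z) = pullback.fst v (c.π.app i) (l z) := by
      rw [← Scheme.Hom.comp_apply, ← Scheme.Hom.comp_apply, pullback.lift_fst]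
    refine (pullback.fst (U.ι ≫ v) (c.π.app i) z).2 ?_
    show m (U.ι (pullback.fst (U.ι ≫ v) (c.π.app i) z)) ∈ Set.range Δ
    rw [hz, ← Scheme.Hom.comp_apply, e, Scheme.Hom.comp_apply]
    exact ⟨_, rfl⟩⟩
  obtain ⟨j, a, hj⟩ := S9207.result D c hc i (U.ι ≫ v) hempty
  refine ⟨j, a, ?_⟩
  have hr : Set.range (pullback.fst v (D.map a) ≫ m) ⊆ Set.range Δ := by
    rintro _ ⟨z, rfl⟩
    rw [Scheme.Hom.comp_apply]
    by_contra hz
    obtain ⟨y, hy₁, -⟩ := Scheme.Pullback.exists_preimage_pullback (f := U.ι ≫ v) (g := D.map a)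
      (⟨pullback.fst v (D.map a) z, hz⟩ : U.toScheme) (pullback.snd v (D.map a) z) (by
        show v (pullback.fst v (D.map a) z) = D.map a (pullback.snd v (D.map a) z)
        rw [← Scheme.Hom.comp_apply, pullback.condition, Scheme.Hom.comp_apply])
    exact hj.false y
  let k := IsOpenImmersion.lift Δ _ hr
  have hk : k ≫ Δ = pullback.fst v (D.map a) ≫ m := IsOpenImmersion.lift_fac _ _ _
  have h1 := congrArg (· ≫ pullback.fst w w) hk
  have h2 := congrArg (· ≫ pullback.snd w w) hk
  simp only [Category.assoc, m, Δ, pullback.lift_fst, pullback.lift_snd, pullback.diagonal_fst,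
    pullback.diagonal_snd, Category.comp_id] at h1 h2
  rw [← h1, h2]

end Groth.Agent.FEtLimFaith
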